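import Groth.Agent.S10192
import Groth.Agent.S10193
import Groth.Agent.Lib.AlgStack.Space
import Groth.Agent.Lib.AlgStack.SliceEtale
import Groth.Agent.H14.Chart.LocQ
import Groth.Agent.H14.Chart.Points
import Groth.Agent.Lib.QuotSt.CatQuot
import Groth.Agent.Lib.AlgSpMor.RepBySp
import Groth.Prelude.Def_StCoarse
import Mathlib.AlgebraicGeometry.Morphisms.LocalFlatDescent

/-!
# Moduli spaces of reduced stacks are reduced
-/

set_option autoImplicit false
set_option backward.isDefEq.respectTransparency false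
set_option backward.isDefEq.respectTransparency.types false

universe u

open CategoryTheory CategoryTheory.Limits AlgebraicGeometry Opposite

noncomputable section

namespace Groth.Agent.Lib.RedModuli

open Groth.Agent.Lib Groth.Agent.Lib.AlgStack
open Groth.Agent.Lib.QuotSt (map_res res eq_mk_res)
open AlgSp (Sp yon IsAlgSpace RepWith LocP)
open AlgSt (ofSp ofSpMap RepByAlgSpWith IsAlgStack overMap)
open FibCat (overCat IsFibGrpd)

variable {S : Scheme.{u}} {𝒳 : AlgSt.Cat S} {M Z : Sp S} (π : 𝒳 ⥤ᵇ ofSp M) (i : Z ⟶ M)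

/-- The section of a functor to a space at an object. -/
def sec (x : 𝒳.obj) : (yon S).obj (𝒳.p.obj x) ⟶ M :=
  (AlgSpace.secEquiv (𝒳.p.obj x)).symm (res (π.obj x) (π.w_obj x))

theorem sec_comp {x y : 𝒳.obj} (f : x ⟶ y) : (yon S).map (𝒳.p.map f) ≫ sec π y = sec π x := by
  rw [sec, AlgSpace.yon_map_comp_secEquiv_symm]
  exact congrArg _ (map_res (π.map f) (π.w_obj x) (π.w_obj y) _ (CategoryTheory.Functor.congr_hom π.w f))

/-- A functor to a space through whose subspace all sections factor factors through the subspace. -/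
theorem exists_factor [Mono i]
    (h : ∀ x : 𝒳.obj, ∃ l : (yon S).obj (𝒳.p.obj x) ⟶ Z, l ≫ i = sec π x) :
    ∃ ψ : 𝒳 ⥤ᵇ ofSp Z, BasedFunctor.comp ψ (ofSpMap i) = π := by
  choose l hl using h
  have hnat : ∀ {x y : 𝒳.obj} (f : x ⟶ y), (yon S).map (𝒳.p.map f) ≫ l y = l x := fun {x y} f => by
    rw [← cancel_mono i, Category.assoc, hl, hl, sec_comp]
  let obj : 𝒳.obj → (ofSp Z).obj := fun x => ⟨𝒳.p.obj x, AlgSpace.secEquiv (𝒳.p.obj x) (l x)⟩
  let ψ : 𝒳 ⥤ᵇ ofSp Z :=
    { toFunctor :=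
        { obj := obj
          map := fun {x y} f => ⟨𝒳.p.map f, by
            apply (AlgSpace.secEquiv (𝒳.p.obj x)).symm.injective
            rw [← AlgSpace.yon_map_comp_secEquiv_symm]
            simp [obj, hnat f]⟩
          map_id := fun x => Stk.EltObj.hom_ext (CategoryTheory.Functor.map_id _ _)
          map_comp := fun f g => Stk.EltObj.hom_ext (CategoryTheory.Functor.map_comp _ f g) }
      w := rfl }
  refine ⟨ψ, QuotSt.functor_ext fun x => ?_⟩
  refine Eq.trans ?_ (eq_mk_res _ (π.w_obj x)).symm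
  refine congrArg (Stk.EltObj.mk (P := M.obj) (𝒳.p.obj x)) ?_
  change i.hom.app (op (𝒳.p.obj x)) (AlgSpace.secEquiv (𝒳.p.obj x) (l x)) = _
  rw [← AlgSpace.secEquiv_comp, hl, sec, Equiv.apply_symm_apply]

/-- A closed immersion through which a flat surjection factors is invertible. -/
theorem isIso_of_fppf {T T' P : Scheme.{u}} (v : P ⟶ T) [IsClosedImmersion v] (s : T' ⟶ T) [Flat s]
    [LocallyOfFinitePresentation s] [Surjective s] (l : T' ⟶ P) (hl : l ≫ v = s) : IsIso v := by
  have : MorphismProperty.DescendsAlong (MorphismProperty.isomorphisms Scheme.{u})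
      (@Surjective ⊓ @Flat ⊓ @LocallyOfFinitePresentation) :=
    AlgSpMor.RepBySp.descendsAlong_fppf _ inferInstance inferInstance
  refine MorphismProperty.of_isPullback_of_descendsAlong (P := MorphismProperty.isomorphisms Scheme.{u})
    (Q := @Surjective ⊓ @Flat ⊓ @LocallyOfFinitePresentation) (IsPullback.of_hasPullback v s).flip
    ⟨⟨‹_›, ‹_›⟩, ‹_›⟩ ?_
  let σ : T' ⟶ pullback v s := pullback.lift l (𝟙 _) (by rw [hl, Category.id_comp])
  refine ⟨σ, (cancel_mono (pullback.snd v s)).1 ?_, pullback.lift_snd _ _ _⟩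
  rw [Category.assoc, pullback.lift_snd, Category.comp_id, Category.id_comp]

/-- A functor from a reduced stack factors through closed subspaces containing all points. -/
theorem exists_sec_factor (h𝒳 : IsAlgStack Scheme.fppfPrecoverage 𝒳)
    (hred : AlgSt.SmoothLocally (fun X => AlgebraicGeometry.IsReduced X) 𝒳) (hM : IsAlgSpace M)
    (hZ : IsAlgSpace Z) (hi : RepWith @IsClosedImmersion i)
    (hsurj : Set.range (AlgSp.Points.map i) = Set.univ) (x : 𝒳.obj) :
    ∃ l : (yon S).obj (𝒳.p.obj x) ⟶ Z, l ≫ i = sec π x := by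
  have hX := h𝒳.isStack.1
  obtain ⟨U, a, ha, has⟩ := h𝒳.atlas
  haveI : AlgebraicGeometry.IsReduced U.left := hred U a ha
  let T := 𝒳.p.obj x
  let y := Yoneda.fromObj hX (rfl : 𝒳.p.obj x = T)
  obtain ⟨T', s, hs, z, ⟨β⟩, hQ⟩ := H14.Chart.Points.exists_chart_lift has y
  haveI : Smooth s.left := hQ H14.Chart.LocQ.smoothST ha
  let u : 𝒳.obj := a.obj (Over.mk (𝟙 U))
  have hu : 𝒳.p.obj u = U := a.w_obj _
  -- a reduced object factors
  obtain ⟨lu, hlu⟩ : ∃ lu, lu ≫ i = sec π u := by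
    have hred' : AlgebraicGeometry.IsReduced (𝒳.p.obj u).left := by rw [hu]; infer_instance
    obtain ⟨g, hg⟩ := (Groth.Agent.S10193.result (X := ⟨M, hM⟩) (Y := (AlgSp.ofScheme S).obj (𝒳.p.obj u))
      (Z := ⟨Z, hZ⟩) (ObjectProperty.homMk i) hi
      ⟨𝒳.p.obj u, 𝟙 _, AlgSp.repWith_id _ _, AlgSp.repWith_id _ _, hred'⟩
      (ObjectProperty.homMk (sec π u))).2 (by
        change _ ⊆ Set.range (AlgSp.Points.map i)
        rw [hsurj]; exact Set.subset_univ _)
    exact ⟨g.hom, congrArg (·.hom) hg⟩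
  -- the common object over the cover
  obtain ⟨e, he⟩ := Yoneda.exists_fromObj_iso hX (rfl : 𝒳.p.obj x = T)
  let o : (overCat T').obj := Over.mk (𝟙 T')
  let c := a.obj (z.obj o)
  let χu : c ⟶ u := a.map (Over.homMk (z.obj o).hom (Category.comp_id _))
  let q : (overMap s).obj o ⟶ (Over.mk (𝟙 T) : (overCat T).obj) := Over.homMk (o.hom ≫ s) (Category.comp_id _)
  let χx : c ⟶ x := (BasedBasic.appIso β o).inv ≫ y.map q ≫ e.hom
  have hc : 𝒳.p.obj c = T' := (a.w_obj _).trans (z.w_obj o)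
  have hχ : 𝒳.p.IsHomLift s χx := by
    have h1 := BasedBasic.appIso_isHomLift β o
    have : 𝒳.p.IsHomLift (𝟙 T') (BasedBasic.appIso β o).hom := h1
    have : 𝒳.p.IsHomLift (𝟙 T') (BasedBasic.appIso β o).inv := IsHomLift.lift_id_inv _ _ _
    have : (overCat T).p.IsHomLift s q := IsHomLift.of_fac' _ _ _ rfl rfl (by simp [q, o]; rfl)
    have := BasedFunctor.preserves_isHomLift y s q
    have : 𝒳.p.IsHomLift (𝟙 T' ≫ s ≫ 𝟙 T) χx := inferInstance
    rw [Category.id_comp, Category.comp_id] at this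
    exact this
  have hsec : sec π c = (yon S).map (eqToHom hc) ≫ (yon S).map s ≫ sec π x := by
    rw [← sec_comp π χx, IsHomLift.fac' 𝒳.p s χx]
    simp [T]
  obtain ⟨T₀, v, η, sq, hv⟩ := AlgSpace.repWith_exists hi (sec π x)
  haveI : IsClosedImmersion v.left := hv
  have hw : ((yon S).map (eqToHom hc.symm) ≫ (yon S).map (𝒳.p.map χu) ≫ lu) ≫ i = (yon S).map s ≫ sec π x := by
    rw [Category.assoc, Category.assoc, hlu, sec_comp, hsec, ← Category.assoc, ← Functor.map_comp]
    simp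
  obtain ⟨k, hk⟩ := (yon S).map_surjective (sq.lift _ _ hw)
  have hkv : k ≫ v = s := (yon S).map_injective (by rw [Functor.map_comp, hk]; exact sq.lift_snd _ _ _)
  haveI := hs
  haveI : IsIso v.left := isIso_of_fppf v.left s.left k.left (congrArg CommaMorphism.left hkv)
  haveI : IsIso ((Over.forget S).map v) := inferInstanceAs (IsIso v.left)
  haveI : IsIso v := isIso_of_reflects_iso v (Over.forget S)
  refine ⟨(yon S).map (inv v) ≫ η, ?_⟩
  rw [Category.assoc, sq.w, ← Category.assoc, ← Functor.map_comp, IsIso.inv_hom_id,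
    CategoryTheory.Functor.map_id, Category.id_comp]

/-- The moduli space of a reduced stack is reduced. -/
theorem isReducedSp_moduli (h𝒳 : IsAlgStack Scheme.fppfPrecoverage 𝒳)
    (hred : AlgSt.SmoothLocally (fun X => AlgebraicGeometry.IsReduced X) 𝒳) (hπ : AlgSt.IsCatModuli π) :
    AlgSp.EtaleLocally (fun U => AlgebraicGeometry.IsReduced U) M := by
  have hM : IsAlgSpace M := hπ.1
  obtain ⟨Z, i, hi, hrange, hZred⟩ := Groth.Agent.S10192.result ⟨M, hM⟩ Set.univ isClosed_univ
  haveI : Mono i.hom := AlgSpace.mono_of_repWith (P := @IsClosedImmersion)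
    (fun _ _ g (_ : IsClosedImmersion g) => (inferInstance : Mono g)) hi
  obtain ⟨ψ, hψ⟩ := exists_factor π i.hom fun x => exists_sec_factor π i.hom h𝒳 hred hM Z.property hi hrange x
  obtain ⟨χ, ⟨e⟩, -⟩ := hπ.2 Z.obj Z.property ψ
  obtain ⟨g, -, hu⟩ := hπ.2 M hM π
  have h1 : χ ≫ i.hom = g := hu _ ⟨eqToIso (by
    have := congrArg (fun F => BasedFunctor.comp F (ofSpMap i.hom)) (QuotSt.functor_eq_of_iso e)
    exact this.trans hψ)⟩
  have h2 : 𝟙 M = g := hu _ ⟨eqToIso (QuotSt.functor_ext fun x => rfl)⟩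
  haveI : IsIso i.hom := ⟨χ, by rw [← cancel_mono i.hom, Category.assoc, h1, ← h2, Category.comp_id,
    Category.id_comp], by rw [h1, ← h2]⟩
  obtain ⟨U, a, ha, has, hU⟩ := hZred
  exact ⟨U, a ≫ i.hom, (AlgSpace.repWith_comp_iso_iff _ a i.hom).2 ha,
    (AlgSpace.repWith_comp_iso_iff _ a i.hom).2 has, hU⟩

end Groth.Agent.Lib.RedModuli
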