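import Groth.Agent.Lib.RedModuli.Basic
import Groth.Agent.S10279
import Groth.Agent.Lib.AlgStack.StabilizerApps
import Groth.Agent.Lib.AlgSpace.DiagProp
import Groth.Agent.Lib.AlgSpMor.Proper
import Groth.Agent.Lib.AlgSpace.Local
import Groth.Agent.Lib.AlgSpDecent.Factor
import Groth.Agent.H14.Chart.Top

/-!
# A sectioned map bijective on geometric points from a reduced stack is a coarse moduli space
-/

set_option autoImplicit false
set_option backward.isDefEq.respectTransparency false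
set_option backward.isDefEq.respectTransparency.types false

universe u

open CategoryTheory CategoryTheory.Limits AlgebraicGeometry Opposite

noncomputable section

namespace Groth.Agent.Lib.RedModuli

open Groth.Agent.Lib Groth.Agent.Lib.AlgStack
open Groth.Agent.Lib.QuotSt (map_res res eq_mk_res)
open AlgSp (Sp yon IsAlgSpace RepWith LocP)
open AlgSt (ofSp ofSpMap RepByAlgSpWith IsAlgStack overMap spMapOfOver)
open FibCat (overCat IsFibGrpd fp fpFst fpSnd diag)

variable {S : Scheme.{u}} {𝒳 : AlgSt.Cat S} {M N : Sp S}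

/-- The section at an object lying over a given scheme. -/
def secAt (φ : 𝒳 ⥤ᵇ ofSp N) (x : 𝒳.obj) {T : Over S} (h : 𝒳.p.obj x = T) : (yon S).obj T ⟶ N :=
  (AlgSpace.secEquiv T).symm (res (φ.obj x) ((φ.w_obj x).trans h))

theorem secAt_comp (φ : 𝒳 ⥤ᵇ ofSp N) {T T' : Over S} {x y : 𝒳.obj} (hx : 𝒳.p.obj x = T')
    (hy : 𝒳.p.obj y = T) (k : x ⟶ y) (g : T' ⟶ T) [𝒳.p.IsHomLift g k] :
    (yon S).map g ≫ secAt φ y hy = secAt φ x hx := by
  rw [secAt, AlgSpace.yon_map_comp_secEquiv_symm]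
  have := BasedFunctor.preserves_isHomLift φ g k
  exact congrArg _ (map_res (φ.map k) ((φ.w_obj x).trans hx) ((φ.w_obj y).trans hy) g
    (IsHomLift.fac' (ofSp N).p g (φ.map k)))

theorem secAt_iso (φ : 𝒳 ⥤ᵇ ofSp N) {T : Over S} {x y : 𝒳.obj} (hx : 𝒳.p.obj x = T)
    (hy : 𝒳.p.obj y = T) (k : x ⟶ y) [𝒳.p.IsHomLift (𝟙 T) k] : secAt φ x hx = secAt φ y hy := by
  rw [← secAt_comp φ hx hy k (𝟙 T), CategoryTheory.Functor.map_id, Category.id_comp]

section Core

variable (f : 𝒳 ⥤ᵇ ofSp M) {T : Over S}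

/-- The heart: two objects over a reduced scheme with isomorphic images have equal values. -/
theorem secAt_eq (hX : IsFibGrpd 𝒳.p) (hM : IsAlgSpace M) (hsep : AlgSt.IsSeparatedMor f)
    (hgeo : AlgSt.GeomPtBij f) (hN : IsAlgSpace N) (φ : 𝒳 ⥤ᵇ ofSp N) [AlgebraicGeometry.IsReduced T.left]
    {u u' : 𝒳.obj} (hu : 𝒳.p.obj u = T) (hu' : 𝒳.p.obj u' = T) (ε : f.obj u ≅ f.obj u')
    (hε : (ofSp M).p.IsHomLift (𝟙 T) ε.hom) : secAt φ u hu = secAt φ u' hu' := by
  subst hu
  have hFF : IsFibGrpd (fp f f).p :=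
    FibProd.isFibGrpd_fp hX hX (Stk.isFibGrpd_ofPsh M.obj)
  let o : (fp f f).obj := FibProd.objMk u u' ε hε
  have ho : (fp f f).p.obj o = 𝒳.p.obj u := rfl
  let z := Yoneda.fromObj hFF ho
  obtain ⟨ι, hι⟩ := Yoneda.exists_fromObj_iso hFF ho
  obtain ⟨G, E, hE, hprop⟩ := hsep (𝒳.p.obj u) z
  let γ := spMapOfOver (BasedFunctor.comp E (fpFst z (diag f)))
  let A := secAt φ u rfl
  let B := secAt φ u' hu'
  -- the two components over a point of the slice
  have comp : ∀ (g : Over (𝒳.p.obj u)),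
      ∃ (x₁ x₂ : 𝒳.obj) (h₁ : 𝒳.p.obj x₁ = g.left) (h₂ : 𝒳.p.obj x₂ = g.left),
        (z.obj g).obj.fst = x₁ ∧ (z.obj g).obj.snd = x₂ ∧
        (yon S).map g.hom ≫ A = secAt φ x₁ h₁ ∧ (yon S).map g.hom ≫ B = secAt φ x₂ h₂ := fun g => by
    have h0 : (fp f f).p.IsHomLift g.hom (z.map (Yoneda.toId g)) := Yoneda.map_toId_isHomLift z g
    have := hι
    have hk : (fp f f).p.IsHomLift g.hom (z.map (Yoneda.toId g) ≫ ι.hom) := by
      have : (fp f f).p.IsHomLift (g.hom ≫ 𝟙 _) (z.map (Yoneda.toId g) ≫ ι.hom) := inferInstance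
      rwa [Category.comp_id] at this
    have h1 : 𝒳.p.IsHomLift g.hom ((fpFst f f).map (z.map (Yoneda.toId g) ≫ ι.hom)) :=
      BasedFunctor.preserves_isHomLift (fpFst f f) _ _
    have h2 : 𝒳.p.IsHomLift g.hom ((fpSnd f f).map (z.map (Yoneda.toId g) ≫ ι.hom)) :=
      BasedFunctor.preserves_isHomLift (fpSnd f f) _ _
    exact ⟨_, _, IsHomLift.domain_eq 𝒳.p g.hom ((fpFst f f).map (z.map (Yoneda.toId g) ≫ ι.hom)),
      IsHomLift.domain_eq 𝒳.p g.hom ((fpSnd f f).map (z.map (Yoneda.toId g) ≫ ι.hom)), rfl, rfl,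
      secAt_comp φ _ rfl ((fpFst f f).map (z.map (Yoneda.toId g) ≫ ι.hom)) g.hom,
      secAt_comp φ _ hu' ((fpSnd f f).map (z.map (Yoneda.toId g) ≫ ι.hom)) g.hom⟩
  -- the equalizer
  have hdiag : (yon S).relativelyRepresentable (Limits.diag N) := hN.diag
  let sE := hdiag.isPullback (prod.lift A B)
  let V := hdiag.pullback (prod.lift A B)
  let v : V ⟶ 𝒳.p.obj u := hdiag.snd (prod.lift A B)
  have hv : LocallyOfFiniteType v.left :=
    AlgSpace.repWith_property (AlgSpace.repWith_diag_locallyOfFiniteType hN) sE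
  have : Mono ((yon S).map v) := MorphismProperty.of_isPullback (P := MorphismProperty.monomorphisms _) sE
    (inferInstanceAs (Mono (Limits.diag N)))
  have : Mono v := (yon S).mono_of_mono_map this
  have : Mono v.left := inferInstance
  have hfac : ∀ {W : Over S} (m : W ⟶ 𝒳.p.obj u), (yon S).map m ≫ A = (yon S).map m ≫ B →
      ∃ l : W ⟶ V, l ≫ v = m := fun {W} m e => by
    obtain ⟨l, hl⟩ := (yon S).map_surjective (sE.lift ((yon S).map m ≫ A) ((yon S).map m)
      (by rw [prod.comp_lift, prod.comp_lift, Category.comp_id, ← e]))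
    exact ⟨l, (yon S).map_injective (by rw [Functor.map_comp, hl, sE.lift_snd])⟩
  -- the representing space maps to the equalizer
  obtain ⟨Q, p, hp, hps⟩ := G.property.atlas
  let a : (ofSp G.obj).obj := ⟨Q, AlgSpace.secEquiv Q p⟩
  let P := E.obj a
  have hPQ : P.obj.fst.left = Q := E.w_obj a
  let m : Q ⟶ 𝒳.p.obj u := eqToHom hPQ.symm ≫ P.obj.fst.hom
  have hm : p ≫ γ = (yon S).map m := by
    apply (AlgSpace.secEquiv Q).injective
    rw [AlgSpace.secEquiv_comp]
    exact congrArg ULift.up (Category.id_comp m).symm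
  obtain ⟨l₀, hl₀⟩ := hfac m (by
    obtain ⟨x₁, x₂, h₁, h₂, e₁, e₂, eA, eB⟩ := comp P.obj.fst
    subst e₁ e₂
    have hi : (fp f f).p.IsHomLift (𝟙 P.obj.fst.left) P.obj.iso.hom := P.property
    let x₀ := P.obj.snd
    have h₀ : 𝒳.p.obj x₀ = P.obj.fst.left := FibProd.snd_obj P
    have i1 : 𝒳.p.IsHomLift (𝟙 P.obj.fst.left) ((fpFst f f).map P.obj.iso.hom) :=
      BasedFunctor.preserves_isHomLift (fpFst f f) _ _
    have i2 : 𝒳.p.IsHomLift (𝟙 P.obj.fst.left) ((fpSnd f f).map P.obj.iso.hom) :=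
      BasedFunctor.preserves_isHomLift (fpSnd f f) _ _
    have j1 := secAt_iso φ h₁ h₀ ((fpFst f f).map P.obj.iso.hom)
    have j2 := secAt_iso φ h₂ h₀ ((fpSnd f f).map P.obj.iso.hom)
    simp only [m, Functor.map_comp, Category.assoc]
    rw [eA, eB, j1, j2])
  haveI := AlgSpace.isLocallySurjective_of_etale hp hps
  obtain ⟨l, hl⟩ := AlgSpDecent.Factor.exists_descend p ((yon S).map v) γ ((yon S).map l₀) (by
    rw [← Functor.map_comp, hl₀, hm])
  -- every point comes from the representing space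
  have hγs : Function.Surjective (AlgSp.Points.map γ) := fun q => by
    obtain ⟨t, rfl⟩ := (AlgSp.Points.schemeHomeo (𝒳.p.obj u)).surjective q
    obtain ⟨Ω, _, _, σ, e, t', ht'⟩ := Stabilizer.exists_geometric t
    let oΩ : (overCat (Over.mk σ)).obj := Over.mk (𝟙 _)
    let g₁ : (overCat (𝒳.p.obj u)).obj := (overMap e).obj oΩ
    obtain ⟨x₁, x₂, h₁, h₂, e₁, e₂, -, -⟩ := comp g₁
    subst e₁ e₂
    have hi : (ofSp M).p.IsHomLift (𝟙 (𝒳.p.obj (z.obj g₁).obj.fst)) (z.obj g₁).obj.iso.hom := (z.obj g₁).property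
    obtain ⟨ν⟩ := (hgeo Ω σ).2 ⟨(z.obj g₁).obj.fst, h₁⟩ ⟨(z.obj g₁).obj.snd, h₂⟩ (by
      have h' := map_res (z.obj g₁).obj.iso.hom ((f.w_obj _).trans h₁) ((f.w_obj _).trans h₂) (𝟙 _) (by
        have : (ofSp M).p.IsHomLift (𝟙 (Over.mk σ)) (z.obj g₁).obj.iso.hom := by rw [h₁] at hi; exact hi
        exact IsHomLift.fac' (ofSp M).p (𝟙 (Over.mk σ)) (z.obj g₁).obj.iso.hom)
      refine h'.symm.trans ?_
      simp
      rfl)
    have hν : 𝒳.p.IsHomLift (𝟙 (Over.mk σ)) ν.hom.1 := ν.hom.2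
    let θ₀ : z.obj g₁ ⟶ (diag f).obj (z.obj g₁).obj.snd := FibProd.homMk ν.hom.1 (𝟙 _) (by
      refine Stk.EltObj.hom_ext ?_
      have a1 := BasedFunctor.preserves_isHomLift f (𝟙 (Over.mk σ)) ν.hom.1
      have a2 : (ofSp M).p.IsHomLift (𝟙 (Over.mk σ)) (z.obj g₁).obj.iso.hom := by rw [h₁] at hi; exact hi
      have a3 : (ofSp M).p.IsHomLift (𝟙 (Over.mk σ)) (((diag f).obj (z.obj g₁).obj.snd).obj.iso.hom) :=
        IsHomLift.id ((f.w_obj _).trans h₂)
      have a4 : (ofSp M).p.IsHomLift (𝟙 (Over.mk σ)) (f.map (𝟙 (z.obj g₁).obj.snd)) := by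
        rw [CategoryTheory.Functor.map_id]; exact IsHomLift.id ((f.w_obj _).trans h₂)
      have a5 : (ofSp M).p.IsHomLift (𝟙 (Over.mk σ))
          (f.map ν.hom.1 ≫ ((diag f).obj (z.obj g₁).obj.snd).obj.iso.hom) := inferInstance
      have a6 : (ofSp M).p.IsHomLift (𝟙 (Over.mk σ))
          ((z.obj g₁).obj.iso.hom ≫ f.map (𝟙 (z.obj g₁).obj.snd)) := inferInstance
      exact (IsHomLift.fac' (ofSp M).p (𝟙 (Over.mk σ))
          (f.map ν.hom.1 ≫ ((diag f).obj (z.obj g₁).obj.snd).obj.iso.hom)).trans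
        (IsHomLift.fac' (ofSp M).p (𝟙 (Over.mk σ))
          ((z.obj g₁).obj.iso.hom ≫ f.map (𝟙 (z.obj g₁).obj.snd))).symm)
    have hθ₀ : (fp f f).p.IsHomLift (𝟙 (Over.mk σ)) θ₀ :=
      IsHomLift.of_fac' _ _ _ h₁ h₂ (IsHomLift.fac' 𝒳.p (𝟙 (Over.mk σ)) ν.hom.1)
    let c := Yoneda.fromObj hX h₂
    obtain ⟨ιc, hιc⟩ := Yoneda.exists_fromObj_iso hX h₂
    have : 𝒳.p.IsHomLift (𝟙 (Over.mk σ)) ιc.hom := hιc
    have : 𝒳.p.IsHomLift (𝟙 (Over.mk σ)) ιc.inv := IsHomLift.lift_id_inv _ _ _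
    have : (fp f f).p.IsHomLift (𝟙 (Over.mk σ)) ((diag f).map ιc.inv) :=
      BasedFunctor.preserves_isHomLift (diag f) _ _
    obtain ⟨β, -⟩ := Yoneda.exists_iso_of_id hFF (BasedFunctor.comp (overMap e) z)
      (BasedFunctor.comp c (diag f)) (θ₀ ≫ (diag f).map ιc.inv)
    obtain ⟨k, hk, -⟩ := H14.Chart.Points.exists_hom_of_iso hE e c β
    refine ⟨AlgSp.Points.map k (AlgSp.Points.schemeHomeo _ t'), ?_⟩
    rw [← AlgSp.Points.map_comp, hk, AlgSp.Points.map_yon_map_apply, ht']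
  have hls : AlgSp.IsSurjectiveMor l := fun q => by
    obtain ⟨g, hg⟩ := hγs (AlgSp.Points.map ((yon S).map v) q)
    refine ⟨g, ?_⟩
    obtain ⟨t₁, rfl⟩ := (AlgSp.Points.schemeHomeo V).surjective q
    obtain ⟨t₂, ht₂⟩ := (AlgSp.Points.schemeHomeo V).surjective (AlgSp.Points.map l g)
    rw [← hl, AlgSp.Points.map_comp, ← ht₂, AlgSp.Points.map_yon_map_apply,
      AlgSp.Points.map_yon_map_apply] at hg
    rw [← ht₂, v.left.injective ((AlgSp.Points.schemeHomeo _).injective hg)]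
  haveI : UniversallyClosed v.left := by
    have h := Groth.Agent.S10279.result (X := G) (Y := (AlgSp.ofScheme S).obj V)
      (B := (AlgSp.ofScheme S).obj (𝒳.p.obj u)) (ObjectProperty.homMk l) (ObjectProperty.homMk γ)
      (ObjectProperty.homMk ((yon S).map v)) (ObjectProperty.hom_ext _ hl) hprop.2.2 hls
    exact (AlgSp.repWith_yon_map_iff _ _).1 (AlgSpMor.Proper.repWith_universallyClosed_of
      (AlgSp.representable_yon_map v) h)
  haveI : IsSeparated v.left := inferInstance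
  haveI : QuasiCompact v.left := inferInstance
  haveI : IsProper v.left := ⟨⟩
  haveI : IsClosedImmersion v.left :=
    (IsClosedImmersion.iff_isProper_and_mono v.left).2 ⟨inferInstance, inferInstance⟩
  haveI : Surjective v.left := ⟨fun t => by
    obtain ⟨g, hg⟩ := hγs (AlgSp.Points.schemeHomeo _ t)
    obtain ⟨t₂, ht₂⟩ := (AlgSp.Points.schemeHomeo V).surjective (AlgSp.Points.map l g)
    rw [← hl, AlgSp.Points.map_comp, ← ht₂, AlgSp.Points.map_yon_map_apply] at hg
    exact ⟨t₂, (AlgSp.Points.schemeHomeo _).injective hg⟩⟩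
  haveI : IsDominant v.left := inferInstance
  haveI : IsSchemeTheoreticallyDominant v.left := IsSchemeTheoreticallyDominant.of_isDominant v.left
  haveI : IsIso v.left := IsClosedImmersion.isIso_iff_ker_eq_bot.mpr (Scheme.Hom.ker_eq_bot v.left)
  haveI : IsIso ((Over.forget S).map v) := inferInstanceAs (IsIso v.left)
  haveI : IsIso v := isIso_of_reflects_iso v (Over.forget S)
  have w := sE.w
  rw [prod.comp_lift, prod.comp_lift, Category.comp_id] at w
  have w1 := congrArg (· ≫ Limits.prod.fst) w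
  have w2 := congrArg (· ≫ Limits.prod.snd) w
  simp only [prod.lift_fst, prod.lift_snd] at w1 w2
  exact (cancel_epi ((yon S).map v)).1 (w1.symm.trans w2)

end Core

/-- A sectioned map, separated and bijective on geometric points, from a reduced stack is a categorical
moduli space. -/
theorem isCatModuli_of_section (h𝒳 : IsAlgStack Scheme.fppfPrecoverage 𝒳)
    (hred : AlgSt.SmoothLocally (fun X => AlgebraicGeometry.IsReduced X) 𝒳) (hM : IsAlgSpace M)
    (f : 𝒳 ⥤ᵇ ofSp M) (hsep : AlgSt.IsSeparatedMor f) (hgeo : AlgSt.GeomPtBij f)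
    (s : ofSp M ⥤ᵇ 𝒳) (e : BasedFunctor.comp s f ≅ BasedFunctor.id (ofSp M)) :
    AlgSt.IsCatModuli f := by
  have hX := h𝒳.isStack.1
  refine ⟨hM, fun N hN φ => ?_⟩
  refine ⟨Space.spHom (BasedFunctor.comp s φ), ⟨eqToIso (QuotSt.functor_ext fun x => ?_)⟩, fun χ' h' => ?_⟩
  · have h1 : ofSpMap (Space.spHom (BasedFunctor.comp s φ)) = BasedFunctor.comp s φ :=
      (QuotSt.functor_eq_of_iso (OfPsh.isoOfPshMap _)).symm
    rw [show (BasedFunctor.comp f (ofSpMap (Space.spHom (BasedFunctor.comp s φ)))) =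
      BasedFunctor.comp f (BasedFunctor.comp s φ) by rw [h1]]
    let x' := s.obj (f.obj x)
    have hx' : 𝒳.p.obj x' = 𝒳.p.obj x := (s.w_obj _).trans (f.w_obj x)
    suffices hsec : secAt φ x' hx' = secAt φ x rfl by
      refine (eq_mk_res _ ((φ.w_obj x').trans hx')).trans (Eq.trans ?_ (eq_mk_res _ (φ.w_obj x)).symm)
      exact congrArg (Stk.EltObj.mk (P := N.obj) (𝒳.p.obj x)) ((AlgSpace.secEquiv _).symm.injective hsec)
    obtain ⟨U, a, ha, has⟩ := h𝒳.atlas
    haveI : AlgebraicGeometry.IsReduced U.left := hred U a ha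
    let T := 𝒳.p.obj x
    let y := Yoneda.fromObj hX (rfl : 𝒳.p.obj x = T)
    obtain ⟨T', σ, hσ, z, ⟨β⟩, hQ⟩ := H14.Chart.Points.exists_chart_lift has y
    haveI : Smooth σ.left := hQ H14.Chart.LocQ.smoothST ha
    let u : 𝒳.obj := a.obj (Over.mk (𝟙 U))
    have hu : 𝒳.p.obj u = U := a.w_obj _
    let u' := s.obj (f.obj u)
    have hu' : 𝒳.p.obj u' = U := (s.w_obj _).trans ((f.w_obj u).trans hu)
    have heq : secAt φ u hu = secAt φ u' hu' := by
      refine secAt_eq f hX hM hsep hgeo hN φ hu hu' (BasedBasic.appIso e (f.obj u)).symm ?_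
      have := BasedBasic.appIso_isHomLift e (f.obj u)
      have : (ofSp M).p.IsHomLift (𝟙 ((ofSp M).p.obj (f.obj u))) (BasedBasic.appIso e (f.obj u)).inv :=
        IsHomLift.lift_id_inv _ _ _
      rw [← hu, ← f.w_obj u]
      exact this
    obtain ⟨ex, hex⟩ := Yoneda.exists_fromObj_iso hX (rfl : 𝒳.p.obj x = T)
    let o : (overCat T').obj := Over.mk (𝟙 T')
    let c := a.obj (z.obj o)
    let m : T' ⟶ U := eqToHom (z.w_obj o).symm ≫ (z.obj o).hom
    let qU : z.obj o ⟶ (Over.mk (𝟙 U) : (overCat U).obj) := Over.homMk (z.obj o).hom (Category.comp_id _)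
    let χu : c ⟶ u := a.map qU
    have hχu : 𝒳.p.IsHomLift m χu := by
      have : (overCat U).p.IsHomLift m qU := IsHomLift.of_fac' _ _ _ (z.w_obj o) rfl (by simp [m, qU]; rfl)
      exact BasedFunctor.preserves_isHomLift a m qU
    let q : (overMap σ).obj o ⟶ (Over.mk (𝟙 T) : (overCat T).obj) := Over.homMk (o.hom ≫ σ) (Category.comp_id _)
    let χx : c ⟶ x := (BasedBasic.appIso β o).inv ≫ y.map q ≫ ex.hom
    have hc : 𝒳.p.obj c = T' := (a.w_obj _).trans (z.w_obj o)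
    have hχ : 𝒳.p.IsHomLift σ χx := by
      have h1 := BasedBasic.appIso_isHomLift β o
      have : 𝒳.p.IsHomLift (𝟙 T') (BasedBasic.appIso β o).hom := h1
      have : 𝒳.p.IsHomLift (𝟙 T') (BasedBasic.appIso β o).inv := IsHomLift.lift_id_inv _ _ _
      have : (overCat T).p.IsHomLift σ q := IsHomLift.of_fac' _ _ _ rfl rfl (by simp [q, o]; rfl)
      have := BasedFunctor.preserves_isHomLift y σ q
      have : 𝒳.p.IsHomLift (𝟙 T' ≫ σ ≫ 𝟙 T) χx := inferInstance
      rw [Category.id_comp, Category.comp_id] at this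
      exact this
    have := BasedFunctor.preserves_isHomLift f σ χx
    have := BasedFunctor.preserves_isHomLift s σ (f.map χx)
    have := BasedFunctor.preserves_isHomLift f m χu
    have := BasedFunctor.preserves_isHomLift s m (f.map χu)
    have hc' : 𝒳.p.obj (s.obj (f.obj c)) = T' := (s.w_obj _).trans ((f.w_obj c).trans hc)
    haveI := hσ
    haveI : Sheaf.IsLocallySurjective ((yon S).map σ) :=
      AlgSpace.isLocallySurjective_yon_map σ ⟨⟨‹_›, inferInstance⟩, inferInstance⟩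
    haveI : Epi ((yon S).map σ) := inferInstance
    rw [← cancel_epi ((yon S).map σ), secAt_comp φ hc' hx' (s.map (f.map χx)) σ, secAt_comp φ hc rfl χx σ,
      ← secAt_comp φ hc' hu' (s.map (f.map χu)) m, ← secAt_comp φ hc hu χu m, heq]
  · obtain ⟨i⟩ := h'
    have e1 : BasedFunctor.comp s f = BasedFunctor.id (ofSp M) := QuotSt.functor_eq_of_iso e
    refine QuotSt.map_eq_of_ofSpMap ?_
    refine Eq.trans ?_ (QuotSt.functor_eq_of_iso (OfPsh.isoOfPshMap (BasedFunctor.comp s φ)))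
    refine Eq.trans ?_ (congrArg (BasedFunctor.comp s) (QuotSt.functor_eq_of_iso i))
    exact (congrArg (fun F => BasedFunctor.comp F (ofSpMap χ')) e1).symm

end Groth.Agent.Lib.RedModuli
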